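import Groth.Agent.Pi1.K260.D1Plan
import Groth.Agent.Flat2E.AIC7

/-!
# Absolutely integrally closed covers over an open subscheme: construction

Node AICX1 of `K260.D1`: the relative version `T S P ⟶ S` of the cover of `Flat2E.AIC6`; on an affine open `U` it is the
spectrum of the integral closure of `Γ(S, U)` in the product over the points `x` of `U` in `P` of an algebraic closure of
`κ(x)`. `Q` is the set of the kernels of the projections.
-/

set_option autoImplicit false

universe u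

open AlgebraicGeometry CategoryTheory Limits Scheme.AffineZariskiSite Opposite
open Groth.Agent.Flat2E Groth.Agent.Flat2E.AIC1 Groth.Agent.Flat2E.AIC5

noncomputable section

namespace K289.D1AicX1

variable (S : Scheme.{u}) (P : Set S)

/-- the points of `U` in `P` -/
abbrev Ix (U : S.Opens) : Type u := {x : S // x ∈ U ∧ x ∈ P}

/-- evaluation in the algebraic closure of the residue field -/
def ev (U : S.Opens) (x : Ix S P U) : Γ(S, U) →+* AIC6.Kb S x.1 := AIC6.ev S U ⟨x.1, x.2.1⟩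

/-- algebra structure -/
@[instance_reducible]
def algKb (U : S.Opens) (x : Ix S P U) : Algebra Γ(S, U) (AIC6.Kb S x.1) := (ev S P U x).toAlgebra

attribute [local instance] algKb

/-- the ring of sections -/
abbrev BR (U : S.Opens) : Type u := integralClosure Γ(S, U) (Π x : Ix S P U, AIC6.Kb S x.1)

theorem ev_res {U V : S.Opens} (h : V ≤ U) (x : Ix S P V) (a : Γ(S, U)) :
    ev S P V x (S.presheaf.map (homOfLE h).op a) = ev S P U ⟨x.1, h x.2.1, x.2.2⟩ a :=
  AIC6.ev_res S h ⟨x.1, x.2.1⟩ a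

/-- restriction -/
def resBR {U V : S.Opens} (h : V ≤ U) : BR S P U →+* BR S P V :=
  letI : Algebra Γ(S, U) Γ(S, V) := (S.presheaf.map (homOfLE h).op).hom.toAlgebra
  let ι : Ix S P V → Ix S P U := fun x => ⟨x.1, h x.2.1, x.2.2⟩
  haveI : ∀ x : Ix S P V, IsScalarTower Γ(S, U) Γ(S, V) (AIC6.Kb S (ι x).1) := fun x =>
    IsScalarTower.of_algebraMap_eq fun a => (ev_res S P h x a).symm
  res (fun x : Ix S P U => AIC6.Kb S x.1) ι

/-- the presheaf -/
def BF : S.Opensᵒᵖ ⥤ CommRingCat.{u} where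
  obj U := .of (BR S P U.unop)
  map i := CommRingCat.ofHom (resBR S P i.unop.le)
  map_id _ := rfl
  map_comp _ _ := rfl

/-- structure map -/
def BFmap : S.presheaf ⟶ BF S P where
  app U := CommRingCat.ofHom (algebraMap Γ(S, U.unop) (BR S P U.unop))
  naturality {U V} i := by
    ext a
    apply Subtype.ext
    funext x
    exact ev_res S P i.unop.le x a

theorem coequifibered_BFmap :
    ((toOpensFunctor S).op.whiskerLeft (BFmap S P)).Coequifibered := by
  refine coequifibered_iff_forall_isLocalizationAway.mpr fun U f ↦ ?_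
  have h := S.basicOpen_le f
  let : Algebra Γ(S, U.1) Γ(S, S.basicOpen f) := (S.presheaf.map (homOfLE h).op).hom.toAlgebra
  let ι : Ix S P (S.basicOpen f) → Ix S P U.1 := fun x => ⟨x.1, h x.2.1, x.2.2⟩
  have : ∀ x : Ix S P (S.basicOpen f), IsScalarTower Γ(S, U.1) Γ(S, S.basicOpen f) (AIC6.Kb S (ι x).1) := fun x =>
    IsScalarTower.of_algebraMap_eq fun a => (ev_res S P h x a).symm
  have : IsLocalization.Away f Γ(S, S.basicOpen f) := U.2.isLocalization_basicOpen _
  have := isLocalization_res (A := Γ(S, U.1)) (A' := Γ(S, S.basicOpen f)) (fun x : Ix S P U.1 => AIC6.Kb S x.1) ι f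
    (fun x y hxy => Subtype.ext (congrArg (fun z : Ix S P U.1 => z.1) hxy)) (fun x => by
      have h1 : algebraMap Γ(S, U.1) (AIC6.Kb S x.1) f ≠ 0 ↔ x.1 ∈ S.basicOpen f := by
        rw [← Scheme.evaluation_ne_zero_iff_mem_basicOpen S x.1 x.2.1 f]
        change (algebraMap (S.residueField x.1) (AlgebraicClosure (S.residueField x.1)))
          (S.evaluation U.1 x.1 x.2.1 f) ≠ 0 ↔ _
        rw [map_ne_zero_iff _ (algebraMap (S.residueField x.1) (AlgebraicClosure (S.residueField x.1))).injective]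
      rw [h1]
      constructor
      · rintro ⟨y, rfl⟩; exact y.2.1
      · intro hx; exact ⟨⟨x.1, hx, x.2.2⟩, rfl⟩)
  exact this

/-- gluing data -/
def glueData := relativeGluingData (coequifibered_BFmap S P)

instance : ((glueData S P).functor ⋙ Scheme.forget).IsLocallyDirected :=
  Scheme.Cover.RelativeGluingData.instIsLocallyDirectedI₀CompFunctorForgetOfIsThin ..

/-- the cover -/
def T : Scheme.{u} := (glueData S P).glued

/-- the structure map of the cover -/
def π : T S P ⟶ S := (glueData S P).toBase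

/-- the charts -/
def chart : (T S P).OpenCover := (glueData S P).cover

/-- the chart over an affine open -/
def chartι (U : S.AffineZariskiSite) : Spec (.of (BR S P U.1)) ⟶ T S P := (chart S P).f U

instance (U : S.AffineZariskiSite) : IsOpenImmersion (chartι S P U) :=
  inferInstanceAs (IsOpenImmersion ((chart S P).f U))

theorem chartι_π (U : S.AffineZariskiSite) :
    chartι S P U ≫ π S P = Spec.map (CommRingCat.ofHom (algebraMap Γ(S, U.1) (BR S P U.1))) ≫ U.2.fromSpec :=
  colimit.ι_desc _ _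

theorem preimage_π (U : S.AffineZariskiSite) : π S P ⁻¹ᵁ U.1 = (chartι S P U).opensRange := by
  simpa using! (glueData S P).toBase_preimage_eq_opensRange_ι U

theorem exists_chart (t : T S P) : ∃ (U : S.AffineZariskiSite) (q : Spec (.of (BR S P U.1))), chartι S P U q = t := by
  obtain ⟨U, q, hq⟩ := (chart S P).exists_eq t
  exact ⟨U, q, hq⟩

instance : IsIntegralHom (π S P) := by
  rw [IsZariskiLocalAtTarget.iff_of_iSup_eq_top (P := @IsIntegralHom) _
    (iSup_affineOpens_eq_top _)]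
  intro U
  let e := IsOpenImmersion.isoOfRangeEq (π S P ⁻¹ᵁ U).ι (chartι S P U)
      (by simpa using congr($(preimage_π S P U).1))
  rw [← MorphismProperty.cancel_left_of_respectsIso @IsIntegralHom e.inv,
    ← MorphismProperty.cancel_right_of_respectsIso @IsIntegralHom _ U.2.isoSpec.hom]
  have : (CommRingCat.ofHom (algebraMap Γ(S, U.1) (BR S P U.1))).hom.IsIntegral := by
    change (algebraMap Γ(S, U.1) (BR S P U.1)).IsIntegral
    exact algebraMap_isIntegral_iff.mpr inferInstance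
  convert! IsIntegralHom.SpecMap_iff.mpr this
  rw [← cancel_mono U.2.fromSpec]
  simp [IsAffineOpen.isoSpec_hom, e, chartι_π]

/-- compatibility of the charts -/
theorem map_chartι {U V : S.AffineZariskiSite} (h : V ⟶ U) :
    Spec.map (CommRingCat.ofHom (resBR S P ((toOpensFunctor S).map h).le)) ≫ chartι S P U = chartι S P V :=
  colimit.w (glueData S P).functor h

/-- projection to a factor -/
def proj (U : S.Opens) (x : Ix S P U) : BR S P U →+* AIC6.Kb S x.1 :=
  (Pi.evalRingHom (fun y : Ix S P U => AIC6.Kb S y.1) x).comp (algebraMap (BR S P U) (Π y : Ix S P U, AIC6.Kb S y.1))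

theorem proj_apply (U : S.Opens) (x : Ix S P U) (b : BR S P U) : proj S P U x b = b.1 x := rfl

/-- the point given by a factor -/
def pt (U : S.Opens) (x : Ix S P U) : Spec (.of (BR S P U)) := ⟨RingHom.ker (proj S P U x), RingHom.ker_isPrime _⟩

theorem mem_pt (U : S.Opens) (x : Ix S P U) (b : BR S P U) : b ∈ (pt S P U x).asIdeal ↔ b.1 x = 0 := Iff.rfl

theorem π_pt (U : S.AffineZariskiSite) (x : Ix S P U.1) : π S P (chartι S P U (pt S P U.1 x)) = x.1 := by
  rw [← Scheme.Hom.comp_apply, chartι_π, Scheme.Hom.comp_apply]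
  have h1 : U.2.fromSpec (U.2.primeIdealOf ⟨x.1, x.2.1⟩) = x.1 := U.2.fromSpec_primeIdealOf ⟨x.1, x.2.1⟩
  refine Eq.trans ?_ h1
  congr 1
  apply PrimeSpectrum.ext
  ext a
  change ev S P U.1 x a = 0 ↔ _
  rw [ev, AIC6.ev, RingHom.comp_apply, map_eq_zero]
  change S.evaluation U.1 x.1 x.2.1 a = 0 ↔ _
  rw [Scheme.evaluation_eq_zero_iff_notMem_basicOpen, U.2.primeIdealOf_eq_map_closedPoint,
    Scheme.mem_basicOpen S a x.1 x.2.1]
  change ¬ IsUnit (S.presheaf.germ U.1 x.1 x.2.1 a) ↔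
    S.presheaf.germ U.1 x.1 x.2.1 a ∈ IsLocalRing.maximalIdeal (S.presheaf.stalk x.1)
  rw [IsLocalRing.mem_maximalIdeal, mem_nonunits_iff]

theorem map_pt {U V : S.Opens} (h : V ≤ U) (x : Ix S P V) :
    Spec.map (CommRingCat.ofHom (resBR S P h)) (pt S P V x) = pt S P U ⟨x.1, h x.2.1, x.2.2⟩ :=
  PrimeSpectrum.ext rfl

/-- the dense set -/
def Q : Set (T S P) := {y | ∃ (U : S.AffineZariskiSite) (x : Ix S P U.1), chartι S P U (pt S P U.1 x) = y}

theorem chartι_pt {U V : S.AffineZariskiSite} (h : V ⟶ U) (x : Ix S P V.1) :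
    chartι S P V (pt S P V.1 x) = chartι S P U (pt S P U.1 ⟨x.1, ((toOpensFunctor S).map h).le x.2.1, x.2.2⟩) := by
  have h1 := congrArg (fun φ : Spec (.of (BR S P V.1)) ⟶ T S P => φ (pt S P V.1 x)) (map_chartι S P h)
  exact h1.symm.trans (congrArg (chartι S P U) (map_pt S P ((toOpensFunctor S).map h).le x))

theorem chartι_pt_eq (U V : S.AffineZariskiSite) (x : Ix S P U.1) (hx : x.1 ∈ V.1) :
    chartι S P U (pt S P U.1 x) = chartι S P V (pt S P V.1 ⟨x.1, hx, x.2.2⟩) := by
  obtain ⟨f, g, hfg, hf⟩ := exists_basicOpen_le_affine_inter U.2 V.2 x.1 ⟨x.2.1, hx⟩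
  have hU : U.basicOpen f ⟶ U := homOfLE ⟨f, rfl⟩
  have hV : U.basicOpen f ⟶ V := homOfLE ⟨g, hfg.symm⟩
  rw [← chartι_pt S P hV ⟨x.1, hf, x.2.2⟩]
  exact (chartι_pt S P hU ⟨x.1, hf, x.2.2⟩).symm

theorem preimage_Q (U : S.AffineZariskiSite) : chartι S P U ⁻¹' Q S P = Set.range (pt S P U.1) := by
  ext q
  constructor
  · rintro ⟨V, x, hx⟩
    have h1 : π S P (chartι S P U q) = x.1 := by rw [← hx, π_pt]
    have h2 : x.1 ∈ U.1 := by
      have h3 : chartι S P U q ∈ (chartι S P U).opensRange := ⟨q, rfl⟩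
      rw [← preimage_π] at h3
      rw [← h1]
      exact h3
    refine ⟨⟨x.1, h2, x.2.2⟩, (chartι S P U).isOpenEmbedding.injective ?_⟩
    rw [← hx, chartι_pt_eq S P V U x h2]
  · rintro ⟨x, rfl⟩
    exact ⟨U, x, rfl⟩

theorem dense_range_pt (U : S.Opens) : Dense (Set.range (pt S P U)) := by
  rw [dense_iff_inter_open]
  intro O hO ⟨q, hq⟩
  obtain ⟨_, ⟨f, rfl⟩, hqf, hfO⟩ := PrimeSpectrum.isTopologicalBasis_basic_opens.exists_subset_of_mem_open hq hO
  have hf : f ≠ 0 := by
    rintro rfl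
    exact hqf (zero_mem q.asIdeal)
  obtain ⟨x, hx⟩ : ∃ x, f.1 x ≠ 0 := by
    by_contra hcon
    push Not at hcon
    exact hf (Subtype.ext (funext hcon))
  exact ⟨pt S P U x, hfO hx, x, rfl⟩

/-- the idempotent of a set of points -/
def idem (U : S.Opens) (D : Set ↥(Spec (CommRingCat.of (BR S P U)))) : BR S P U := by
  classical
  exact ⟨supp (fun x : Ix S P U => AIC6.Kb S x.1) (fun x => if pt S P U x ∈ D then 1 else 0), isIntegral_supp _ _⟩

theorem idem_mem_pt (U : S.Opens) (D : Set ↥(Spec (CommRingCat.of (BR S P U)))) (x : Ix S P U) :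
    idem S P U D ∈ (pt S P U x).asIdeal ↔ pt S P U x ∉ D := by
  classical
  rw [mem_pt]
  by_cases h : pt S P U x ∈ D
  · simp [idem, supp, h]
  · simp [idem, supp, h]

theorem isIdempotentElem_idem (U : S.Opens) (D : Set ↥(Spec (CommRingCat.of (BR S P U)))) :
    IsIdempotentElem (idem S P U D) :=
  Subtype.ext (supp_mul_self _ _)

theorem aicData : K260.D1.AicData (Q S P) := by
  refine ⟨fun y => ?_⟩
  obtain ⟨U, q, rfl⟩ := exists_chart S P y
  refine ⟨BR S P U.1, inferInstance, chartι S P U, inferInstance, ⟨q, rfl⟩, isAIC_integralClosure_pi _,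
    fun q _ => isDomain_localization _ q, ?_, ?_⟩
  · rw [preimage_Q]
    exact dense_range_pt S P U.1
  · intro D hD
    rw [preimage_Q] at hD ⊢
    refine ⟨((PrimeSpectrum.basicOpen (idem S P U.1 D) : TopologicalSpace.Opens _) : Set (PrimeSpectrum _)),
      PrimeSpectrum.isClopen_iff.2 ⟨_, isIdempotentElem_idem S P U.1 D, rfl⟩, ?_⟩
    ext z
    constructor
    · rintro ⟨h1, ⟨x, rfl⟩⟩
      by_contra h2
      exact h1 ((idem_mem_pt S P U.1 D x).2 h2)
    · intro hz
      obtain ⟨x, rfl⟩ := hD hz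
      exact ⟨fun h1 => (idem_mem_pt S P U.1 D x).1 h1 hz, x, rfl⟩

theorem exists_mem_Q (x : S) (hx : x ∈ P) : ∃ y ∈ Q S P, π S P y = x := by
  obtain ⟨_, ⟨U, hU, rfl⟩, hxU, -⟩ := S.isBasis_affineOpens.exists_subset_of_mem_open
    (Set.mem_univ x) isOpen_univ
  exact ⟨_, ⟨⟨U, hU⟩, ⟨x, hxU, hx⟩, rfl⟩, π_pt S P ⟨U, hU⟩ ⟨x, hxU, hx⟩⟩

/-- **Node AICX1**. -/
theorem aicX1 : K260.D1.AicX1.{u} := by
  intro X Z j _
  refine ⟨T Z (Set.range j), π Z (Set.range j), Q Z (Set.range j), inferInstance,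
    fun x => exists_mem_Q Z (Set.range j) (j x) ⟨x, rfl⟩, ?_, aicData Z (Set.range j)⟩
  rintro _ ⟨U, x, rfl⟩
  rw [π_pt]
  exact x.2.2

end K289.D1AicX1
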